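import Cfsg.Agent.Lib.ToddCox.Fi22X.Data0
set_option autoImplicit false
set_option maxRecDepth 100000
namespace Cfsg.Agent.Lib.ToddCox.Fi22X
def eT_1_3 (j : ℕ) : ℕ := bif Nat.blt j 2 then E_1 else E_2
def eT_0_3 (j : ℕ) : ℕ := bif Nat.blt j 1 then E_0 else (eT_1_3 j)
def eT (j : ℕ) : ℕ := (eT_0_3 j)
noncomputable def chunkF (h : ℕ) : ℕ := Nat.rec (motive := fun _ => ℕ) (eT 0) (fun n _ => eT (Nat.succ n)) h
noncomputable def Eo (r : ℕ) : ℕ := Nat.land (Nat.shiftRight (chunkF (Nat.shiftRight r 8)) (Nat.mul (Nat.land r 255) 54)) 18014398509481983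
def invT : ℕ := 0xffef7cefae78df6d74cf2c70beeb6caeaa689e69648e28607de75c6da6585d65544d24503ce34c2c92881c61440c2040
def inv (y : ℕ) : ℕ := invOf invT y
def Wt_0_2 (j : ℕ) : List ℕ := bif Nat.blt j 1 then [nat_lit 0, nat_lit 2, nat_lit 0, nat_lit 2] else [nat_lit 0, nat_lit 3, nat_lit 0, nat_lit 3]
def Wt_3_5 (j : ℕ) : List ℕ := bif Nat.blt j 4 then [nat_lit 0, nat_lit 5, nat_lit 0, nat_lit 5] else [nat_lit 0, nat_lit 6, nat_lit 0, nat_lit 6]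
def Wt_2_5 (j : ℕ) : List ℕ := bif Nat.blt j 3 then [nat_lit 0, nat_lit 4, nat_lit 0, nat_lit 4] else (Wt_3_5 j)
def Wt_0_5 (j : ℕ) : List ℕ := bif Nat.blt j 2 then (Wt_0_2 j) else (Wt_2_5 j)
def Wt_5_7 (j : ℕ) : List ℕ := bif Nat.blt j 6 then [nat_lit 0, nat_lit 7, nat_lit 0, nat_lit 7] else [nat_lit 1, nat_lit 3, nat_lit 1, nat_lit 3]
def Wt_8_10 (j : ℕ) : List ℕ := bif Nat.blt j 9 then [nat_lit 1, nat_lit 5, nat_lit 1, nat_lit 5] else [nat_lit 1, nat_lit 6, nat_lit 1, nat_lit 6]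
def Wt_7_10 (j : ℕ) : List ℕ := bif Nat.blt j 8 then [nat_lit 1, nat_lit 4, nat_lit 1, nat_lit 4] else (Wt_8_10 j)
def Wt_5_10 (j : ℕ) : List ℕ := bif Nat.blt j 7 then (Wt_5_7 j) else (Wt_7_10 j)
def Wt_0_10 (j : ℕ) : List ℕ := bif Nat.blt j 5 then (Wt_0_5 j) else (Wt_5_10 j)
def Wt_10_12 (j : ℕ) : List ℕ := bif Nat.blt j 11 then [nat_lit 2, nat_lit 4, nat_lit 2, nat_lit 4] else [nat_lit 2, nat_lit 5, nat_lit 2, nat_lit 5]
def Wt_13_15 (j : ℕ) : List ℕ := bif Nat.blt j 14 then [nat_lit 3, nat_lit 5, nat_lit 3, nat_lit 5] else [nat_lit 3, nat_lit 6, nat_lit 3, nat_lit 6]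
def Wt_12_15 (j : ℕ) : List ℕ := bif Nat.blt j 13 then [nat_lit 2, nat_lit 6, nat_lit 2, nat_lit 6] else (Wt_13_15 j)
def Wt_10_15 (j : ℕ) : List ℕ := bif Nat.blt j 12 then (Wt_10_12 j) else (Wt_12_15 j)
def Wt_15_17 (j : ℕ) : List ℕ := bif Nat.blt j 16 then [nat_lit 3, nat_lit 8, nat_lit 3, nat_lit 8] else [nat_lit 4, nat_lit 6, nat_lit 4, nat_lit 6]
def Wt_18_20 (j : ℕ) : List ℕ := bif Nat.blt j 19 then [nat_lit 5, nat_lit 7, nat_lit 5, nat_lit 7] else [nat_lit 5, nat_lit 8, nat_lit 5, nat_lit 8]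
def Wt_17_20 (j : ℕ) : List ℕ := bif Nat.blt j 18 then [nat_lit 4, nat_lit 8, nat_lit 4, nat_lit 8] else (Wt_18_20 j)
def Wt_15_20 (j : ℕ) : List ℕ := bif Nat.blt j 17 then (Wt_15_17 j) else (Wt_17_20 j)
def Wt_10_20 (j : ℕ) : List ℕ := bif Nat.blt j 15 then (Wt_10_15 j) else (Wt_15_20 j)
def Wt_0_20 (j : ℕ) : List ℕ := bif Nat.blt j 10 then (Wt_0_10 j) else (Wt_10_20 j)
def Wt_20_22 (j : ℕ) : List ℕ := bif Nat.blt j 21 then [nat_lit 6, nat_lit 7, nat_lit 6, nat_lit 7] else [nat_lit 1, nat_lit 0, nat_lit 1, nat_lit 0, nat_lit 1, nat_lit 0]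
def Wt_23_25 (j : ℕ) : List ℕ := bif Nat.blt j 24 then [nat_lit 1, nat_lit 8, nat_lit 1, nat_lit 8] else [nat_lit 0, nat_lit 8, nat_lit 0, nat_lit 8]
def Wt_22_25 (j : ℕ) : List ℕ := bif Nat.blt j 23 then [nat_lit 1, nat_lit 7, nat_lit 1, nat_lit 7] else (Wt_23_25 j)
def Wt_20_25 (j : ℕ) : List ℕ := bif Nat.blt j 22 then (Wt_20_22 j) else (Wt_22_25 j)
def Wt_25_27 (j : ℕ) : List ℕ := bif Nat.blt j 26 then [nat_lit 3, nat_lit 2, nat_lit 3, nat_lit 2, nat_lit 3, nat_lit 2] else [nat_lit 4, nat_lit 7, nat_lit 4, nat_lit 7]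
def Wt_28_30 (j : ℕ) : List ℕ := bif Nat.blt j 29 then [nat_lit 6, nat_lit 8, nat_lit 6, nat_lit 8] else [nat_lit 6, nat_lit 5, nat_lit 6, nat_lit 5, nat_lit 6, nat_lit 5]
def Wt_27_30 (j : ℕ) : List ℕ := bif Nat.blt j 28 then [nat_lit 2, nat_lit 8, nat_lit 2, nat_lit 8] else (Wt_28_30 j)
def Wt_25_30 (j : ℕ) : List ℕ := bif Nat.blt j 27 then (Wt_25_27 j) else (Wt_27_30 j)
def Wt_20_30 (j : ℕ) : List ℕ := bif Nat.blt j 25 then (Wt_20_25 j) else (Wt_25_30 j)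
def Wt_30_32 (j : ℕ) : List ℕ := bif Nat.blt j 31 then [nat_lit 2, nat_lit 1, nat_lit 2, nat_lit 1, nat_lit 2, nat_lit 1] else [nat_lit 4, nat_lit 5, nat_lit 7, nat_lit 8, nat_lit 0, nat_lit 1, nat_lit 2, nat_lit 3]
def Wt_33_35 (j : ℕ) : List ℕ := bif Nat.blt j 34 then [nat_lit 5, nat_lit 3, nat_lit 5, nat_lit 3] else [nat_lit 63, nat_lit 5, nat_lit 4, nat_lit 5, nat_lit 4, nat_lit 5, nat_lit 4]
def Wt_32_35 (j : ℕ) : List ℕ := bif Nat.blt j 33 then [nat_lit 3, nat_lit 2, nat_lit 1, nat_lit 0, nat_lit 8, nat_lit 7, nat_lit 5, nat_lit 4] else (Wt_33_35 j)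
def Wt_30_35 (j : ℕ) : List ℕ := bif Nat.blt j 32 then (Wt_30_32 j) else (Wt_32_35 j)
def Wt_35_37 (j : ℕ) : List ℕ := bif Nat.blt j 36 then [nat_lit 63, nat_lit 3, nat_lit 63, nat_lit 3] else [nat_lit 63, nat_lit 4, nat_lit 63, nat_lit 4]
def Wt_38_40 (j : ℕ) : List ℕ := bif Nat.blt j 39 then [nat_lit 63, nat_lit 7, nat_lit 63, nat_lit 7] else [nat_lit 63, nat_lit 0, nat_lit 63, nat_lit 0]
def Wt_37_40 (j : ℕ) : List ℕ := bif Nat.blt j 38 then [nat_lit 3, nat_lit 3, nat_lit 63] else (Wt_38_40 j)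
def Wt_35_40 (j : ℕ) : List ℕ := bif Nat.blt j 37 then (Wt_35_37 j) else (Wt_37_40 j)
def Wt_30_40 (j : ℕ) : List ℕ := bif Nat.blt j 35 then (Wt_30_35 j) else (Wt_35_40 j)
def Wt_20_40 (j : ℕ) : List ℕ := bif Nat.blt j 30 then (Wt_20_30 j) else (Wt_30_40 j)
def Wt_0_40 (j : ℕ) : List ℕ := bif Nat.blt j 20 then (Wt_0_20 j) else (Wt_20_40 j)
def Wt_40_42 (j : ℕ) : List ℕ := bif Nat.blt j 41 then [nat_lit 63, nat_lit 1, nat_lit 63, nat_lit 1] else [nat_lit 63, nat_lit 2, nat_lit 63, nat_lit 2]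
def Wt_43_45 (j : ℕ) : List ℕ := bif Nat.blt j 44 then [nat_lit 63, nat_lit 6, nat_lit 63, nat_lit 6] else [nat_lit 63, nat_lit 8, nat_lit 63, nat_lit 8]
def Wt_42_45 (j : ℕ) : List ℕ := bif Nat.blt j 43 then [nat_lit 63, nat_lit 5, nat_lit 63, nat_lit 5] else (Wt_43_45 j)
def Wt_40_45 (j : ℕ) : List ℕ := bif Nat.blt j 42 then (Wt_40_42 j) else (Wt_42_45 j)
def Wt_45_47 (j : ℕ) : List ℕ := bif Nat.blt j 46 then [nat_lit 5, nat_lit 5, nat_lit 63] else [nat_lit 6, nat_lit 6, nat_lit 63]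
def Wt_48_50 (j : ℕ) : List ℕ := bif Nat.blt j 49 then [nat_lit 7, nat_lit 7, nat_lit 63] else [nat_lit 7, nat_lit 0, nat_lit 7, nat_lit 0]
def Wt_47_50 (j : ℕ) : List ℕ := bif Nat.blt j 48 then [nat_lit 63, nat_lit 3, nat_lit 4, nat_lit 3, nat_lit 4, nat_lit 3, nat_lit 4] else (Wt_48_50 j)
def Wt_45_50 (j : ℕ) : List ℕ := bif Nat.blt j 47 then (Wt_45_47 j) else (Wt_47_50 j)
def Wt_40_50 (j : ℕ) : List ℕ := bif Nat.blt j 45 then (Wt_40_45 j) else (Wt_45_50 j)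
def Wt_50_52 (j : ℕ) : List ℕ := bif Nat.blt j 51 then [nat_lit 63, nat_lit 7, nat_lit 2, nat_lit 7, nat_lit 2] else [nat_lit 2, nat_lit 2, nat_lit 63]
def Wt_53_55 (j : ℕ) : List ℕ := bif Nat.blt j 54 then [nat_lit 63, nat_lit 7, nat_lit 3, nat_lit 7, nat_lit 3, nat_lit 7, nat_lit 3] else [nat_lit 63, nat_lit 7, nat_lit 8, nat_lit 7, nat_lit 8, nat_lit 7, nat_lit 8]
def Wt_52_55 (j : ℕ) : List ℕ := bif Nat.blt j 53 then [nat_lit 8, nat_lit 8, nat_lit 63] else (Wt_53_55 j)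
def Wt_50_55 (j : ℕ) : List ℕ := bif Nat.blt j 52 then (Wt_50_52 j) else (Wt_52_55 j)
def Wt_55_57 (j : ℕ) : List ℕ := bif Nat.blt j 56 then [nat_lit 63, nat_lit 8, nat_lit 1, nat_lit 8, nat_lit 1] else [nat_lit 1, nat_lit 1, nat_lit 63]
def Wt_58_60 (j : ℕ) : List ℕ := bif Nat.blt j 59 then [nat_lit 63, nat_lit 5, nat_lit 0, nat_lit 5, nat_lit 0] else [nat_lit 63, nat_lit 5, nat_lit 8, nat_lit 5, nat_lit 8]
def Wt_57_60 (j : ℕ) : List ℕ := bif Nat.blt j 58 then [nat_lit 4, nat_lit 4, nat_lit 63] else (Wt_58_60 j)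
def Wt_55_60 (j : ℕ) : List ℕ := bif Nat.blt j 57 then (Wt_55_57 j) else (Wt_57_60 j)
def Wt_50_60 (j : ℕ) : List ℕ := bif Nat.blt j 55 then (Wt_50_55 j) else (Wt_55_60 j)
def Wt_40_60 (j : ℕ) : List ℕ := bif Nat.blt j 50 then (Wt_40_50 j) else (Wt_50_60 j)
def Wt_60_62 (j : ℕ) : List ℕ := bif Nat.blt j 61 then [nat_lit 8, nat_lit 7, nat_lit 8, nat_lit 7, nat_lit 8, nat_lit 7] else [nat_lit 63, nat_lit 3, nat_lit 4, nat_lit 5, nat_lit 7, nat_lit 8, nat_lit 0, nat_lit 1, nat_lit 2]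
def Wt_63_65 (j : ℕ) : List ℕ := bif Nat.blt j 64 then [nat_lit 63, nat_lit 2, nat_lit 63, nat_lit 2, nat_lit 63] else [nat_lit 63, nat_lit 63, nat_lit 3, nat_lit 63, nat_lit 3]
def Wt_62_65 (j : ℕ) : List ℕ := bif Nat.blt j 63 then [nat_lit 63, nat_lit 2, nat_lit 3, nat_lit 4, nat_lit 5, nat_lit 7, nat_lit 8, nat_lit 0, nat_lit 1] else (Wt_63_65 j)
def Wt_60_65 (j : ℕ) : List ℕ := bif Nat.blt j 62 then (Wt_60_62 j) else (Wt_62_65 j)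
def Wt_65_67 (j : ℕ) : List ℕ := bif Nat.blt j 66 then [nat_lit 63, nat_lit 63, nat_lit 63] else [nat_lit 63, nat_lit 3, nat_lit 63, nat_lit 3, nat_lit 63]
def Wt_68_70 (j : ℕ) : List ℕ := bif Nat.blt j 69 then [nat_lit 63, nat_lit 1, nat_lit 63, nat_lit 1, nat_lit 63] else [nat_lit 63, nat_lit 63, nat_lit 5, nat_lit 63, nat_lit 5]
def Wt_67_70 (j : ℕ) : List ℕ := bif Nat.blt j 68 then [nat_lit 5, nat_lit 63, nat_lit 5, nat_lit 63] else (Wt_68_70 j)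
def Wt_65_70 (j : ℕ) : List ℕ := bif Nat.blt j 67 then (Wt_65_67 j) else (Wt_67_70 j)
def Wt_60_70 (j : ℕ) : List ℕ := bif Nat.blt j 65 then (Wt_60_65 j) else (Wt_65_70 j)
def Wt_70_72 (j : ℕ) : List ℕ := bif Nat.blt j 71 then [nat_lit 63, nat_lit 8, nat_lit 63, nat_lit 8, nat_lit 63] else [nat_lit 63, nat_lit 7, nat_lit 63, nat_lit 7, nat_lit 63]
def Wt_73_75 (j : ℕ) : List ℕ := bif Nat.blt j 74 then [nat_lit 4, nat_lit 63, nat_lit 4, nat_lit 63] else [nat_lit 63, nat_lit 4, nat_lit 63, nat_lit 4, nat_lit 63]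
def Wt_72_75 (j : ℕ) : List ℕ := bif Nat.blt j 73 then [nat_lit 63, nat_lit 63, nat_lit 8, nat_lit 63, nat_lit 8, nat_lit 63] else (Wt_73_75 j)
def Wt_70_75 (j : ℕ) : List ℕ := bif Nat.blt j 72 then (Wt_70_72 j) else (Wt_72_75 j)
def Wt_75_77 (j : ℕ) : List ℕ := bif Nat.blt j 76 then [nat_lit 63, nat_lit 63, nat_lit 7, nat_lit 63, nat_lit 7] else [nat_lit 63, nat_lit 6, nat_lit 63, nat_lit 6, nat_lit 63]
def Wt_78_80 (j : ℕ) : List ℕ := bif Nat.blt j 79 then [nat_lit 63, nat_lit 6, nat_lit 5, nat_lit 4, nat_lit 3, nat_lit 2, nat_lit 1, nat_lit 7, nat_lit 6, nat_lit 5, nat_lit 4, nat_lit 3, nat_lit 2, nat_lit 1, nat_lit 7, nat_lit 6, nat_lit 5, nat_lit 4, nat_lit 3, nat_lit 2, nat_lit 1, nat_lit 7, nat_lit 6, nat_lit 5, nat_lit 4, nat_lit 3, nat_lit 2, nat_lit 1, nat_lit 7, nat_lit 6, nat_lit 5, nat_lit 4, nat_lit 3, nat_lit 2, nat_lit 1, nat_lit 7, nat_lit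 6, nat_lit 5, nat_lit 4, nat_lit 3, nat_lit 2, nat_lit 1, nat_lit 7, nat_lit 6, nat_lit 5, nat_lit 4, nat_lit 3, nat_lit 2, nat_lit 1, nat_lit 7, nat_lit 6, nat_lit 5, nat_lit 4, nat_lit 3, nat_lit 2, nat_lit 1, nat_lit 7, nat_lit 6, nat_lit 5, nat_lit 4, nat_lit 3, nat_lit 2, nat_lit 1, nat_lit 7] else [nat_lit 0, nat_lit 0, nat_lit 63]
def Wt_77_80 (j : ℕ) : List ℕ := bif Nat.blt j 78 then [nat_lit 63, nat_lit 5, nat_lit 7, nat_lit 8, nat_lit 0, nat_lit 1, nat_lit 2, nat_lit 3, nat_lit 4] else (Wt_78_80 j)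
def Wt_75_80 (j : ℕ) : List ℕ := bif Nat.blt j 77 then (Wt_75_77 j) else (Wt_77_80 j)
def Wt_70_80 (j : ℕ) : List ℕ := bif Nat.blt j 75 then (Wt_70_75 j) else (Wt_75_80 j)
def Wt_60_80 (j : ℕ) : List ℕ := bif Nat.blt j 70 then (Wt_60_70 j) else (Wt_70_80 j)
def Wt_40_80 (j : ℕ) : List ℕ := bif Nat.blt j 60 then (Wt_40_60 j) else (Wt_60_80 j)
def Wt_0_80 (j : ℕ) : List ℕ := bif Nat.blt j 40 then (Wt_0_40 j) else (Wt_40_80 j)
def Wt (j : ℕ) : List ℕ := (Wt_0_80 j)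
def W (j : ℕ) : List ℕ := bif Nat.blt j 80 then Wt j else []
theorem W_ge (j : ℕ) (h : 80 ≤ j) : W j = [] := by
  unfold W
  rw [blt_false_of_le h]
  rfl
def Hl : List ℕ := []
def isH (y : ℕ) : Bool := List.elem y Hl
def Rb : List (List ℕ) := [[nat_lit 0, nat_lit 0],
  [nat_lit 1, nat_lit 0, nat_lit 1, nat_lit 0, nat_lit 1, nat_lit 0],
  [nat_lit 2, nat_lit 0, nat_lit 2, nat_lit 0],
  [nat_lit 3, nat_lit 0, nat_lit 3, nat_lit 0],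
  [nat_lit 4, nat_lit 0, nat_lit 4, nat_lit 0],
  [nat_lit 5, nat_lit 0, nat_lit 5, nat_lit 0],
  [nat_lit 6, nat_lit 0, nat_lit 6, nat_lit 0],
  [nat_lit 7, nat_lit 0, nat_lit 7, nat_lit 0],
  [nat_lit 8, nat_lit 0, nat_lit 8, nat_lit 0],
  [nat_lit 1, nat_lit 1],
  [nat_lit 2, nat_lit 1, nat_lit 2, nat_lit 1, nat_lit 2, nat_lit 1],
  [nat_lit 3, nat_lit 1, nat_lit 3, nat_lit 1],
  [nat_lit 4, nat_lit 1, nat_lit 4, nat_lit 1],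
  [nat_lit 5, nat_lit 1, nat_lit 5, nat_lit 1],
  [nat_lit 6, nat_lit 1, nat_lit 6, nat_lit 1],
  [nat_lit 7, nat_lit 1, nat_lit 7, nat_lit 1],
  [nat_lit 8, nat_lit 1, nat_lit 8, nat_lit 1],
  [nat_lit 2, nat_lit 2],
  [nat_lit 3, nat_lit 2, nat_lit 3, nat_lit 2, nat_lit 3, nat_lit 2],
  [nat_lit 4, nat_lit 2, nat_lit 4, nat_lit 2],
  [nat_lit 5, nat_lit 2, nat_lit 5, nat_lit 2],
  [nat_lit 6, nat_lit 2, nat_lit 6, nat_lit 2],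
  [nat_lit 7, nat_lit 2, nat_lit 7, nat_lit 2],
  [nat_lit 8, nat_lit 2, nat_lit 8, nat_lit 2],
  [nat_lit 3, nat_lit 3],
  [nat_lit 4, nat_lit 3, nat_lit 4, nat_lit 3, nat_lit 4, nat_lit 3],
  [nat_lit 5, nat_lit 3, nat_lit 5, nat_lit 3],
  [nat_lit 6, nat_lit 3, nat_lit 6, nat_lit 3],
  [nat_lit 7, nat_lit 3, nat_lit 7, nat_lit 3, nat_lit 7, nat_lit 3],
  [nat_lit 8, nat_lit 3, nat_lit 8, nat_lit 3],
  [nat_lit 4, nat_lit 4],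
  [nat_lit 5, nat_lit 4, nat_lit 5, nat_lit 4, nat_lit 5, nat_lit 4],
  [nat_lit 6, nat_lit 4, nat_lit 6, nat_lit 4],
  [nat_lit 7, nat_lit 4, nat_lit 7, nat_lit 4],
  [nat_lit 8, nat_lit 4, nat_lit 8, nat_lit 4],
  [nat_lit 5, nat_lit 5],
  [nat_lit 6, nat_lit 5, nat_lit 6, nat_lit 5, nat_lit 6, nat_lit 5],
  [nat_lit 7, nat_lit 5, nat_lit 7, nat_lit 5],
  [nat_lit 8, nat_lit 5, nat_lit 8, nat_lit 5],
  [nat_lit 6, nat_lit 6],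
  [nat_lit 7, nat_lit 6, nat_lit 7, nat_lit 6],
  [nat_lit 8, nat_lit 6, nat_lit 8, nat_lit 6],
  [nat_lit 7, nat_lit 7],
  [nat_lit 8, nat_lit 7, nat_lit 8, nat_lit 7, nat_lit 8, nat_lit 7],
  [nat_lit 8, nat_lit 8],
  [nat_lit 8, nat_lit 7, nat_lit 3, nat_lit 5, nat_lit 4, nat_lit 3, nat_lit 1, nat_lit 2, nat_lit 3, nat_lit 8, nat_lit 7, nat_lit 3, nat_lit 5, nat_lit 4, nat_lit 3, nat_lit 1, nat_lit 2, nat_lit 3, nat_lit 8, nat_lit 7, nat_lit 3, nat_lit 5, nat_lit 4, nat_lit 3, nat_lit 1, nat_lit 2, nat_lit 3, nat_lit 8, nat_lit 7, nat_lit 3, nat_lit 5, nat_lit 4, nat_lit 3, nat_lit 1, nat_lit 2, nat_lit 3, nat_lit 8, nat_lit 7, nat_lit 3, nat_lit 5, nat_lit 4, nat_lit 3, nat_lit 1, nat_lit 2, nat_lit 3, nat_lit 8, nat_lit 7, nat_lit 3, nat_lit 5, nat_lit 4, nat_lit 3, nat_lit 1, nat_lit 2, nat_lit 3, nat_lit 8, nat_lit 7, nat_lit 3, nat_lit 5, nat_lit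 4, nat_lit 3, nat_lit 1, nat_lit 2, nat_lit 3, nat_lit 8, nat_lit 7, nat_lit 3, nat_lit 5, nat_lit 4, nat_lit 3, nat_lit 1, nat_lit 2, nat_lit 3, nat_lit 8, nat_lit 7, nat_lit 3, nat_lit 5, nat_lit 4, nat_lit 3, nat_lit 1, nat_lit 2, nat_lit 3, nat_lit 8, nat_lit 7, nat_lit 3, nat_lit 5, nat_lit 4, nat_lit 3, nat_lit 1, nat_lit 2, nat_lit 3],
  [nat_lit 7, nat_lit 5, nat_lit 4, nat_lit 3, nat_lit 2, nat_lit 1, nat_lit 0, nat_lit 7, nat_lit 5, nat_lit 4, nat_lit 3, nat_lit 2, nat_lit 1, nat_lit 0, nat_lit 7, nat_lit 5, nat_lit 4, nat_lit 3, nat_lit 2, nat_lit 1, nat_lit 0, nat_lit 7, nat_lit 5, nat_lit 4, nat_lit 3, nat_lit 2, nat_lit 1, nat_lit 0, nat_lit 7, nat_lit 5, nat_lit 4, nat_lit 3, nat_lit 2, nat_lit 1, nat_lit 0, nat_lit 7, nat_lit 5, nat_lit 4, nat_lit 3, nat_lit 2, nat_lit 1, nat_lit 0, nat_lit 7, nat_lit 5, nat_lit 4, nat_lit 3, nat_lit 2,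 nat_lit 1, nat_lit 0, nat_lit 7, nat_lit 5, nat_lit 4, nat_lit 3, nat_lit 2, nat_lit 1, nat_lit 0, nat_lit 7, nat_lit 5, nat_lit 4, nat_lit 3, nat_lit 2, nat_lit 1, nat_lit 0],
  [nat_lit 7, nat_lit 6, nat_lit 5, nat_lit 4, nat_lit 3, nat_lit 2, nat_lit 1, nat_lit 7, nat_lit 6, nat_lit 5, nat_lit 4, nat_lit 3, nat_lit 2, nat_lit 1, nat_lit 7, nat_lit 6, nat_lit 5, nat_lit 4, nat_lit 3, nat_lit 2, nat_lit 1, nat_lit 7, nat_lit 6, nat_lit 5, nat_lit 4, nat_lit 3, nat_lit 2, nat_lit 1, nat_lit 7, nat_lit 6, nat_lit 5, nat_lit 4, nat_lit 3, nat_lit 2, nat_lit 1, nat_lit 7, nat_lit 6, nat_lit 5, nat_lit 4, nat_lit 3, nat_lit 2, nat_lit 1, nat_lit 7, nat_lit 6, nat_lit 5, nat_lit 4, nat_lit 3, nat_lit 2, nat_lit 1, nat_lit 7, nat_lit 6, nat_lit 5, nat_lit 4, nat_lit 3, nat_lit 2, nat_lit 1, nat_lit 7, nat_lit 6, nat_lit 5, nat_lit 4, nat_lit 3, nat_lit 2, nat_lit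 1],
  [nat_lit 0, nat_lit 1, nat_lit 2, nat_lit 3, nat_lit 4, nat_lit 5, nat_lit 7, nat_lit 8],
  []]
def spT_0_2 (j : ℕ) : ℕ := bif Nat.blt j 1 then nat_lit 0x220000406000006060000020560000204c0000000a0000003c0000001200000020000020560000003800000058000000220000002c0000200e00000054000020320000004e00000046000000580000004e0000004600000022000000120000000000000054000000300000003c000000300000003e000020340000a0610000a0600000201400002048000000520000002e000000420000202400000010000000200000001e00002002000000500000004c0000004a00000044000000400000003a00000036000000340000002a00000028000000260000001c0000001a00000018000000160000000e0000000c0000000a000000080000000600000004 else nat_lit 0x205e0000a0600000004e000000540000003c0000003c000000580000005400000058000000460000001200000046000000300000006200000030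
def spT (j : ℕ) : ℕ := (spT_0_2 j)
def sp (j : ℕ) : ℕ := Nat.land (Nat.shiftRight (spT (Nat.shiftRight j 6)) (Nat.mul (Nat.land j 63) 32)) 4294967295
theorem Eo_lt (r : ℕ) : Eo r < 18014398509481984 := land54_lt _
def cT (j : ℕ) : ℕ := nat_lit 0x0
noncomputable def cChunk (h : ℕ) : ℕ := Nat.rec (motive := fun _ => ℕ) (cT 0) (fun n _ => cT (Nat.succ n)) h
noncomputable def cF (i : ℕ) : ℕ := Nat.land (Nat.shiftRight (cChunk (Nat.shiftRight i 7)) (Nat.mul (Nat.land i 127) 24)) 16777215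
theorem cF_lt (i : ℕ) : cF i < 16777216 := land24_lt _
theorem cF_zero : cF 0 = 0 := by decide +kernel
def nDef : ℕ := 120
def nEv : ℕ := 380
def nW : ℕ := 80
def N : ℕ := 1
def ys : List ℕ := [nat_lit 0, nat_lit 1, nat_lit 2, nat_lit 3, nat_lit 4, nat_lit 5, nat_lit 6, nat_lit 7, nat_lit 8]
def xw : List ℕ := [nat_lit 0, nat_lit 1, nat_lit 2, nat_lit 3, nat_lit 4, nat_lit 5, nat_lit 7, nat_lit 8]
end Cfsg.Agent.Lib.ToddCox.Fi22X
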